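import Mathlib.RingTheory.PicardGroup
import Mathlib.RingTheory.Flat.Basic

/-!
# Picard groups along maps which are bijective modulo a set of regular elements

`Dense A L S N`: `A → L` is bijective modulo every element of `S`, and every element of `L` outside
the proper ideal `N` generates the same ideal as an element of `S`.
-/

universe u

open scoped TensorProduct

namespace Groth.Agent.H24.PicLaurent

/-- `A → L` is bijective modulo `S`, and `S` exhausts `L` outside `N` up to units. -/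
structure Dense (A L : Type u) [CommRing A] [CommRing L] [Algebra A L] (S : Set A) (N : Ideal L) :
    Prop where
  mul_mem : ∀ f ∈ S, ∀ g ∈ S, f * g ∈ S
  regular : ∀ f ∈ S, ∀ a : A, f * a = 0 → a = 0
  regular_map : ∀ f ∈ S, ∀ a : L, algebraMap A L f * a = 0 → a = 0
  surj : ∀ f ∈ S, ∀ y : L, ∃ g : A, y - algebraMap A L g ∈ Ideal.span {algebraMap A L f}
  inj : ∀ f ∈ S, ∀ g : A, algebraMap A L g ∈ Ideal.span {algebraMap A L f} → g ∈ Ideal.span {f}
  notMem : ∀ f ∈ S, algebraMap A L f ∉ N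
  exists_span_eq : ∀ a : L, a ∉ N → ∃ f ∈ S, Ideal.span {a} = Ideal.span {algebraMap A L f}

theorem cross {A : Type u} [CommRing A] {M : Type u} [AddCommGroup M] [Module A M]
    [Module.Invertible A M] (φ ψ : Module.Dual A M) (x y : M) : φ x * ψ y = φ y * ψ x := by
  have h := congrArg (LinearMap.mul' A A ∘ₗ TensorProduct.map φ ψ)
    (Module.Invertible.tmul_comm (R := A) (m₁ := x) (m₂ := y))
  simpa using h

theorem exists_dual_basis {A : Type u} [CommRing A] (M : Type u) [AddCommGroup M] [Module A M]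
    [Module.Finite A M] [Module.Projective A M] :
    ∃ (n : ℕ) (φ : Fin n → Module.Dual A M) (y : Fin n → M), ∀ x, x = ∑ i, φ i x • y i := by
  obtain ⟨n, π, hπ⟩ := Module.Finite.exists_fin' A M
  obtain ⟨σ, hσ⟩ := Module.projective_lifting_property π LinearMap.id hπ
  refine ⟨n, fun i => LinearMap.proj i ∘ₗ σ, fun i => π (Pi.single i 1), fun x => ?_⟩
  conv_lhs => rw [← LinearMap.id_apply (R := A) x, ← hσ, LinearMap.comp_apply, pi_eq_sum_univ (σ x)]
  rw [map_sum]
  refine Finset.sum_congr rfl fun i _ => ?_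
  rw [map_smul]
  congr 2
  funext j
  simp [Pi.single_apply, eq_comm]

namespace Dense

variable {A L : Type u} [CommRing A] [CommRing L] [Algebra A L] {S : Set A} {N : Ideal L}
  (D : Dense A L S N)

include D

/-- An ideal containing an element of `S` is the contraction of its extension. -/
theorem comap_map {J : Ideal A} {f : A} (hf : f ∈ S) (hfJ : f ∈ J) :
    (J.map (algebraMap A L)).comap (algebraMap A L) = J := by
  refine le_antisymm (fun y hy => ?_) Ideal.le_comap_map
  have hs : Function.Surjective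
      ((Ideal.Quotient.mk (Ideal.span {algebraMap A L f})).comp (algebraMap A L)) := fun q => by
    obtain ⟨z, rfl⟩ := Ideal.Quotient.mk_surjective q
    obtain ⟨g, hg⟩ := D.surj f hf z
    exact ⟨g, (Ideal.Quotient.eq.mpr hg).symm⟩
  have h1 := Ideal.mem_map_of_mem (Ideal.Quotient.mk (Ideal.span {algebraMap A L f}))
    (Ideal.mem_comap.mp hy)
  rw [Ideal.map_map, Ideal.mem_map_iff_of_surjective _ hs] at h1
  obtain ⟨j, hj, hjy⟩ := h1
  rw [RingHom.comp_apply, Ideal.Quotient.eq, ← map_sub] at hjy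
  obtain ⟨c, hc⟩ := Ideal.mem_span_singleton.mp (D.inj f hf _ hjy)
  rw [← sub_sub_cancel j y, hc]
  exact sub_mem hj (Ideal.mul_mem_right _ _ hfJ)

/-- An ideal of `L` containing an element of `S` is extended. -/
theorem map_comap {J : Ideal L} {f : A} (hf : f ∈ S) (hfJ : algebraMap A L f ∈ J) :
    (J.comap (algebraMap A L)).map (algebraMap A L) = J := by
  refine le_antisymm Ideal.map_comap_le fun y hy => ?_
  obtain ⟨g, hg⟩ := D.surj f hf y
  have hgJ : algebraMap A L g ∈ J := by
    rw [← sub_sub_cancel y (algebraMap A L g)]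
    exact sub_mem hy ((Ideal.span_singleton_le_iff_mem J).mpr hfJ hg)
  rw [← sub_add_cancel y (algebraMap A L g)]
  refine add_mem ?_ (Ideal.mem_map_of_mem _ hgJ)
  refine (Ideal.span_singleton_le_iff_mem _).mpr ?_ hg
  exact Ideal.mem_map_of_mem _ (show f ∈ J.comap (algebraMap A L) from hfJ)

/-- A module trivial over `L` with a functional meeting `S` is trivial. -/
theorem free_of_free (M : Type u) [AddCommGroup M] [Module A M] [Module.Invertible A M]
    (m0 : M) (φ0 : Module.Dual A M) (h0 : φ0 m0 ∈ S) (e : L ⊗[A] M ≃ₗ[L] L) :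
    Module.Free A M := by
  let ev : Module.Dual A M →ₗ[A] A := LinearMap.applyₗ m0
  set J : Ideal A := LinearMap.range ev with hJdef
  have hfJ : φ0 m0 ∈ J := ⟨φ0, rfl⟩
  set v := e (1 ⊗ₜ m0) with hv
  obtain ⟨n, φ, y, hy⟩ := exists_dual_basis (A := A) M
  have hJv : J.map (algebraMap A L) = Ideal.span {v} := by
    refine le_antisymm (Ideal.map_le_iff_le_comap.mpr ?_) ?_
    · rintro _ ⟨ψ, rfl⟩
      rw [Ideal.mem_comap, Ideal.mem_span_singleton]
      let Ψ : L ⊗[A] M →ₗ[L] L :=
        TensorProduct.AlgebraTensorModule.rid A L L ∘ₗ ψ.baseChange L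
      refine ⟨Ψ (e.symm 1), ?_⟩
      calc algebraMap A L (ψ m0) = Ψ (1 ⊗ₜ m0) := by simp [Ψ, Algebra.algebraMap_eq_smul_one]
        _ = Ψ (v • e.symm 1) := by rw [← map_smul, smul_eq_mul, mul_one, hv, e.symm_apply_apply]
        _ = v * Ψ (e.symm 1) := by rw [map_smul, smul_eq_mul]
    · rw [Ideal.span_singleton_le_iff_mem, hv, hy m0]
      rw [TensorProduct.tmul_sum, map_sum]
      refine Ideal.sum_mem _ fun i _ => ?_
      rw [TensorProduct.tmul_smul, ← algebraMap_smul L (φ i m0) ((1 : L) ⊗ₜ[A] y i), map_smul, smul_eq_mul]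
      exact Ideal.mul_mem_right _ _
        (Ideal.mem_map_of_mem _ (show φ i m0 ∈ J from ⟨φ i, rfl⟩))
  have hvN : v ∉ N := fun h => D.notMem _ h0
    ((Ideal.span_singleton_le_iff_mem N).mpr h (hJv ▸ Ideal.mem_map_of_mem _ hfJ))
  obtain ⟨Q, hQ, hvQ⟩ := D.exists_span_eq v hvN
  have hJQ : J = Ideal.span {Q} := by
    rw [← D.comap_map h0 hfJ, ← D.comap_map hQ (Ideal.mem_span_singleton_self Q), hJv, hvQ,
      Ideal.map_span, Set.image_singleton]
  let μ : A →ₗ[A] A := LinearMap.mulLeft A Q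
  have hμi : Function.Injective μ := (injective_iff_map_eq_zero μ).mpr (D.regular Q hQ)
  have hrange : LinearMap.range ev ≤ LinearMap.range μ := by
    intro z hz
    obtain ⟨c, hc⟩ := Ideal.mem_span_singleton.mp (show z ∈ Ideal.span {Q} from hJQ ▸ hz)
    exact ⟨c, hc.symm⟩
  let g : Module.Dual A M →ₗ[A] A := (LinearEquiv.ofInjective μ hμi).symm.toLinearMap ∘ₗ
    ev.codRestrict (LinearMap.range μ) fun ψ => hrange ⟨ψ, rfl⟩
  have hg : Function.Surjective g := by
    intro a
    obtain ⟨ψ, hψ⟩ : μ a ∈ LinearMap.range ev := by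
      show Q * a ∈ J
      rw [hJQ]
      exact Ideal.mul_mem_right _ _ (Ideal.mem_span_singleton_self Q)
    refine ⟨ψ, hμi ?_⟩
    show μ ((LinearEquiv.ofInjective μ hμi).symm _) = _
    rw [← LinearEquiv.ofInjective_apply (h := hμi), LinearEquiv.apply_symm_apply]
    exact hψ
  let δ := LinearEquiv.ofBijective g (Module.Invertible.bijective_of_surjective hg)
  exact Module.Free.of_equiv ((TensorProduct.lid A M).symm ≪≫ₗ δ.symm.rTensor M ≪≫ₗ
    Module.Invertible.linearEquiv A M).symm

/-- Every invertible `L`-module is extended from `A`. -/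
theorem exists_extension (hN : N ≠ ⊤) (L0 : Type u) [AddCommGroup L0] [Module L L0]
    [Module.Invertible L L0] :
    ∃ (M : Type u) (_ : AddCommGroup M) (_ : Module A M), Module.Invertible A M ∧
      Nonempty (L0 ≃ₗ[L] L ⊗[A] M) := by
  classical
  obtain ⟨ψ0, x0, h0⟩ : ∃ (ψ : Module.Dual L L0) (x : L0), ψ x ∉ N := by
    by_contra hne
    push Not at hne
    obtain ⟨s, hs⟩ := TensorProduct.exists_finset ((Module.Invertible.linearEquiv L L0).symm 1)
    refine hN ((Ideal.eq_top_iff_one N).mpr ?_)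
    rw [← (Module.Invertible.linearEquiv L L0).apply_symm_apply 1, hs, map_sum]
    exact Ideal.sum_mem _ fun i _ => by
      simpa [Module.Invertible.linearEquiv] using hne i.1 i.2
  obtain ⟨n, φ, y, hy⟩ := exists_dual_basis (A := L) L0
  obtain ⟨Q, hQ, hqQ⟩ := D.exists_span_eq _ h0
  set J : Ideal L := LinearMap.range (LinearMap.applyₗ x0 : Module.Dual L L0 →ₗ[L] L) with hJ
  set J'' : Ideal L := LinearMap.range ψ0 with hJ''
  have hQJ : algebraMap A L Q ∈ J :=
    (Ideal.span_singleton_le_iff_mem J).mpr ⟨ψ0, rfl⟩ (hqQ.symm ▸ Ideal.mem_span_singleton_self _)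
  have hQJ'' : algebraMap A L Q ∈ J'' :=
    (Ideal.span_singleton_le_iff_mem J'').mpr ⟨x0, rfl⟩ (hqQ.symm ▸ Ideal.mem_span_singleton_self _)
  have hJJ : J * J'' = Ideal.span {algebraMap A L Q} := by
    rw [← hqQ]
    refine le_antisymm (Ideal.mul_le.mpr ?_) ((Ideal.span_singleton_le_iff_mem _).mpr ?_)
    · rintro _ ⟨χ, rfl⟩ _ ⟨z, rfl⟩
      show χ x0 * ψ0 z ∈ _
      rw [cross χ ψ0 x0 z]
      exact Ideal.mul_mem_left _ _ (Ideal.mem_span_singleton_self _)
    · obtain ⟨s, hs⟩ := TensorProduct.exists_finset ((Module.Invertible.linearEquiv L L0).symm 1)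
      have h1 : (1 : L) = ∑ i ∈ s, i.1 i.2 := by
        rw [← (Module.Invertible.linearEquiv L L0).apply_symm_apply 1, hs, map_sum]
        exact Finset.sum_congr rfl fun i _ => by simp [Module.Invertible.linearEquiv]
      rw [← one_mul (ψ0 x0), h1, Finset.sum_mul]
      refine Ideal.sum_mem _ fun i _ => ?_
      rw [← cross i.1 ψ0 x0 i.2]
      exact Ideal.mul_mem_mul ⟨i.1, rfl⟩ ⟨i.2, rfl⟩
  set J1 := J.comap (algebraMap A L) with hJ1
  set J2 := J''.comap (algebraMap A L) with hJ2
  have h12 : J1 * J2 = Ideal.span {Q} := by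
    rw [← D.comap_map (D.mul_mem Q hQ Q hQ) (J := J1 * J2) (Ideal.mul_mem_mul hQJ hQJ''),
      ← D.comap_map hQ (Ideal.mem_span_singleton_self Q), Ideal.map_mul, hJ1, hJ2,
      D.map_comap hQ hQJ, D.map_comap hQ hQJ'', hJJ, Ideal.map_span, Set.image_singleton]
  have hdiv : ∀ (a : J1) (b : J2), ∃ c : A, (a : A) * b = Q * c := fun a b =>
    Ideal.mem_span_singleton.mp (h12 ▸ Ideal.mul_mem_mul a.2 b.2)
  choose c hc using hdiv
  have hcan : ∀ {a b : A}, Q * a = Q * b → a = b := fun {a b} h =>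
    sub_eq_zero.mp (D.regular Q hQ _ (by rw [mul_sub, h, sub_self]))
  let β : J1 →ₗ[A] J2 →ₗ[A] A := LinearMap.mk₂ A c
    (fun a a' b => hcan (by rw [mul_add, ← hc, ← hc, ← hc, ← add_mul]; rfl))
    (fun r a b => hcan (by rw [← hc, smul_eq_mul, mul_left_comm, ← hc, ← mul_assoc]; rfl))
    (fun a b b' => hcan (by rw [mul_add, ← hc, ← hc, ← hc, ← mul_add]; rfl))
    (fun r a b => hcan (by rw [← hc, smul_eq_mul, mul_left_comm Q, ← hc, mul_left_comm r]; rfl))
  obtain ⟨t, ht⟩ : ∃ t : J1 ⊗[A] J2, TensorProduct.lift β t = 1 := by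
    have h : ∀ z ∈ J1 * J2, ∃ t : J1 ⊗[A] J2, Q * TensorProduct.lift β t = z := by
      intro z hz
      refine Submodule.mul_induction_on hz (fun a ha b hb => ⟨(⟨a, ha⟩ : J1) ⊗ₜ (⟨b, hb⟩ : J2), ?_⟩) ?_
      · rw [TensorProduct.lift.tmul]
        exact (hc ⟨a, ha⟩ ⟨b, hb⟩).symm
      · rintro a b ⟨t, rfl⟩ ⟨t', rfl⟩
        exact ⟨t + t', by rw [map_add, mul_add]⟩
    obtain ⟨t, ht⟩ := h Q (h12 ▸ Ideal.mem_span_singleton_self Q)
    exact ⟨t, hcan (by rw [ht, mul_one])⟩
  have hinv : ∀ z : J1 ⊗[A] J2, z = TensorProduct.lift β z • t := by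
    intro z
    have key : ∀ (z w : J1 ⊗[A] J2),
        TensorProduct.lift β w • z = TensorProduct.lift β z • w := by
      intro z w
      induction z using TensorProduct.induction_on with
      | zero => simp
      | add z z' hz hz' => rw [smul_add, hz, hz', map_add, add_smul]
      | tmul a b =>
        induction w using TensorProduct.induction_on with
        | zero => simp
        | add w w' hw hw' => rw [map_add, add_smul, hw, hw', smul_add]
        | tmul a' b' =>
          simp only [TensorProduct.lift.tmul]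
          show c a' b' • (a ⊗ₜ[A] b) = c a b • (a' ⊗ₜ[A] b')
          have e1 : (a : A) • a' = (a' : A) • a := Subtype.ext (mul_comm _ _)
          have e2 : c a' b' • a = c a b' • a' := Subtype.ext (hcan (by
            show Q * (c a' b' * (a : A)) = Q * (c a b' * (a' : A))
            rw [← mul_assoc, ← hc, ← mul_assoc, ← hc]; ring))
          have e3 : c a b' • b = c a b • b' := Subtype.ext (hcan (by
            show Q * (c a b' * (b : A)) = Q * (c a b * (b' : A))
            rw [← mul_assoc, ← hc, ← mul_assoc, ← hc]; ring))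
          rw [TensorProduct.smul_tmul', e2, TensorProduct.smul_tmul, e3, TensorProduct.tmul_smul]
    rw [← key z t, ht, one_smul]
  have hbij : Function.Bijective (TensorProduct.lift β) :=
    ⟨fun z w h => by rw [hinv z, hinv w, h], fun r => ⟨r • t, by rw [map_smul, ht, smul_eq_mul, mul_one]⟩⟩
  have hM : Module.Invertible A J2 := Module.Invertible.right (LinearEquiv.ofBijective _ hbij)
  refine ⟨J2, inferInstance, inferInstance, hM, ?_⟩
  have hψi : Function.Injective ψ0 := by
    refine (injective_iff_map_eq_zero ψ0).mpr fun z hz => ?_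
    rw [hy z]
    refine Finset.sum_eq_zero fun i _ => ?_
    have h1 := cross (φ i) ψ0 z x0
    rw [hz, mul_zero] at h1
    obtain ⟨w, hw⟩ := Ideal.mem_span_singleton.mp
      (show algebraMap A L Q ∈ Ideal.span {ψ0 x0} from hqQ.symm ▸ Ideal.mem_span_singleton_self _)
    rw [D.regular_map Q hQ (φ i z) (by rw [hw, mul_comm, ← mul_assoc, h1, zero_mul]), zero_smul]
  let incl : J2 →ₗ[A] L := (Algebra.linearMap A L) ∘ₗ J2.subtype
  have hμmem : ∀ z, TensorProduct.AlgebraTensorModule.lift
      (LinearMap.toSpanSingleton L (J2 →ₗ[A] L) incl) z ∈ J'' := by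
    intro z
    induction z using TensorProduct.induction_on with
    | zero => rw [map_zero]; exact zero_mem _
    | add z z' hz hz' => rw [map_add]; exact add_mem hz hz'
    | tmul l b =>
      show l • algebraMap A L b ∈ J''
      exact J''.smul_mem l b.2
  let g : L ⊗[A] J2 →ₗ[L] L0 := (LinearEquiv.ofInjective ψ0 hψi).symm.toLinearMap ∘ₗ
    (TensorProduct.AlgebraTensorModule.lift (LinearMap.toSpanSingleton L (J2 →ₗ[A] L) incl)).codRestrict
      J'' hμmem
  have hgs : Function.Surjective g := by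
    intro z
    have hz : ψ0 z ∈ (J2.map (algebraMap A L)) := (D.map_comap hQ hQJ'').symm ▸ ⟨z, rfl⟩
    suffices ∀ w ∈ J2.map (algebraMap A L), ∃ r, TensorProduct.AlgebraTensorModule.lift
        (LinearMap.toSpanSingleton L (J2 →ₗ[A] L) incl) r = w by
      obtain ⟨r, hr⟩ := this _ hz
      refine ⟨r, hψi ?_⟩
      show ψ0 ((LinearEquiv.ofInjective ψ0 hψi).symm _) = _
      rw [← LinearEquiv.ofInjective_apply (h := hψi), LinearEquiv.apply_symm_apply]
      exact hr
    intro w hw
    refine Submodule.span_induction (fun w hw => ?_) ⟨0, map_zero _⟩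
      (fun a b _ _ ⟨r, hr⟩ ⟨r', hr'⟩ => ⟨r + r', by rw [map_add, hr, hr']⟩)
      (fun l a _ ⟨r, hr⟩ => ⟨l • r, by rw [map_smul, hr]⟩) hw
    obtain ⟨b, hb, rfl⟩ := hw
    exact ⟨1 ⊗ₜ ⟨b, hb⟩, by simp [incl]⟩
  exact ⟨(LinearEquiv.ofBijective g (Module.Invertible.bijective_of_surjective hgs)).symm⟩

end Dense

end Groth.Agent.H24.PicLaurent
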