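import Groth.Agent.H24.Weierstrass.Existence
import Groth.Agent.H24.Weierstrass.Division
import Groth.Agent.H24.PicLaurent.Dense
import Mathlib.Algebra.Polynomial.Reverse

/-!
# `R[s] → R{t}[1/t]`, `s = 1/t`, is bijective modulo polynomials congruent to one modulo `m`
-/

universe u

open Polynomial IsLocalRing
open Groth.Agent.Lib.Henselian

namespace Groth.Agent.H24.PicLaurent

/-- Polynomials congruent to `1` modulo `m`. -/
def Special (R : Type u) [CommRing R] [IsLocalRing R] : Set R[X] :=
  {f | f - 1 ∈ (maximalIdeal R).map (C : R →+* R[X])}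

variable {R : Type u} [CommRing R] [HenselianLocalRing R] {B : Type u} [CommRing B] [Algebra R B]
  [Algebra R[X] B] [IsScalarTower R R[X] B]

theorem coeff_zero_isUnit {f : R[X]} (hf : f ∈ Special R) : IsUnit (f.coeff 0) := by
  have h := Ideal.mem_map_C_iff.mp hf 0
  rw [coeff_sub, coeff_one_zero] at h
  by_contra hu
  refine (maximalIdeal.isMaximal R).ne_top ((Ideal.eq_top_iff_one _).mpr ?_)
  simpa using sub_mem (show f.coeff 0 ∈ maximalIdeal R from hu) h

theorem regular_special {f : R[X]} (hf : f ∈ Special R) (a : R[X]) (h : f * a = 0) : a = 0 := by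
  by_contra ha
  have h1 : f ∉ nonZeroDivisors R[X] := fun hmem => ha ((mem_nonZeroDivisors_iff.mp hmem).1 a h)
  obtain ⟨r, hr, hr0⟩ := Polynomial.notMem_nonZeroDivisors_iff.mp h1
  have h2 : r * f.coeff 0 = 0 := by
    have := congrArg (fun p : R[X] => p.coeff 0) hr0
    simpa [coeff_smul] using this
  exact hr ((coeff_zero_isUnit hf).mul_left_eq_zero.mp h2)

theorem mul_special (f : R[X]) (hf : f ∈ Special R) (g : R[X]) (hg : g ∈ Special R) :
    f * g ∈ Special R := by
  show f * g - 1 ∈ (maximalIdeal R).map (C : R →+* R[X])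
  rw [show f * g - 1 = (f - 1) * g + (g - 1) by ring]
  exact add_mem (Ideal.mul_mem_right _ _ hf) hg

variable (R B) in
/-- `R{t}[1/t]`. -/
abbrev Loc : Type u := Localization.Away (algebraMap R[X] B X)

local notation "bL" => algebraMap B (Loc R B)
local notation "xL" => algebraMap B (Loc R B) (algebraMap R[X] B X)
local notation "wL" => IsLocalization.Away.invSelf (S := Loc R B) (algebraMap R[X] B X)

variable (R B) in
/-- `s ↦ 1/t`. -/
noncomputable def beta : R[X] →+* Loc R B :=
  eval₂RingHom ((algebraMap B (Loc R B)).comp (algebraMap R B))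
    (IsLocalization.Away.invSelf (algebraMap R[X] B X))

omit [HenselianLocalRing R] [Algebra R B] [IsScalarTower R R[X] B] in
theorem xL_mul_wL : xL * wL = 1 := IsLocalization.Away.mul_invSelf _

omit [HenselianLocalRing R] [IsScalarTower R R[X] B] in
theorem beta_X : beta R B X = wL := eval₂_X _ _

omit [HenselianLocalRing R] [IsScalarTower R R[X] B] in
theorem beta_C (r : R) : beta R B (C r) = bL (algebraMap R B r) := eval₂_C _ _

omit [HenselianLocalRing R] in
theorem eval₂_xL (p : R[X]) :
    eval₂ ((algebraMap B (Loc R B)).comp (algebraMap R B)) xL p = bL (algebraMap R[X] B p) := by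
  have : eval₂RingHom ((algebraMap B (Loc R B)).comp (algebraMap R B)) xL
      = (algebraMap B (Loc R B)).comp (algebraMap R[X] B) := by
    refine Polynomial.ringHom_ext (fun r => ?_) (eval₂_X _ _)
    simp only [coe_eval₂RingHom, eval₂_C, RingHom.comp_apply]
    rw [IsScalarTower.algebraMap_apply R R[X] B, Polynomial.algebraMap_eq]
  exact RingHom.congr_fun this p

/-- `β` of the reflection of `p` in degree `N` is `p(t) / t ^ N`. -/
theorem beta_reflect {N : ℕ} {p : R[X]} (hp : p.natDegree ≤ N) :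
    beta R B (reflect N p) * xL ^ N = bL (algebraMap R[X] B p) := by
  let : Invertible (xL) := ⟨wL, by rw [mul_comm]; exact xL_mul_wL, xL_mul_wL⟩
  exact (eval₂_reflect_mul_pow _ (xL) N p hp).trans (eval₂_xL p)

theorem revAt_gt {N i : ℕ} (h : N < i) : revAt N i = i := if_neg (not_le.mpr h)

theorem exists_distinguished {f : R[X]} (hf : f ∈ Special R) :
    ∃ (P : R[X]) (u : (Loc R B)ˣ), P.Monic ∧ (∀ i < P.natDegree, P.coeff i ∈ maximalIdeal R) ∧
      beta R B f = bL (algebraMap R[X] B P) * u ∧
      ∀ {T : Type u} [CommRing T] (i : R →+* T) (a b : T), a * b = 1 →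
        eval₂ i a f = 0 → eval₂ i b P = 0 := by
  set N := f.natDegree
  have hc := coeff_zero_isUnit hf
  obtain ⟨c, hcf⟩ := hc
  let P := C (↑c⁻¹ : R) * reflect N f
  have hP : ∀ i, P.coeff i = ↑c⁻¹ * f.coeff (revAt N i) := fun i => by
    simp [P, coeff_C_mul, coeff_reflect]
  have hN : P.coeff N = 1 := by
    rw [hP, revAt_le le_rfl, Nat.sub_self, ← hcf, Units.inv_mul]
  have hle : P.natDegree ≤ N := natDegree_le_iff_coeff_eq_zero.mpr fun i hi => by
    rw [hP, revAt_gt hi, coeff_eq_zero_of_natDegree_lt hi, mul_zero]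
  have hdeg : P.natDegree = N :=
    le_antisymm hle (le_natDegree_of_ne_zero (by rw [hN]; exact one_ne_zero))
  have hm : P.Monic := by rw [Monic, leadingCoeff, hdeg, hN]
  refine ⟨P, (Units.map (bL).toMonoidHom (Units.map (algebraMap R B).toMonoidHom c)) *
    ((Units.mkOfMulEqOne _ _ (show wL * xL = 1 by rw [mul_comm]; exact xL_mul_wL)) : (Loc R B)ˣ) ^ N,
    hm, fun i hi => ?_, ?_, ?_⟩
  · rw [hdeg] at hi
    rw [hP, revAt_le hi.le]
    refine Ideal.mul_mem_left _ _ ?_
    have := Ideal.mem_map_C_iff.mp hf (N - i)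
    rwa [coeff_sub, coeff_one, if_neg (by omega), sub_zero] at this
  · have h1 : beta R B f * xL ^ N = bL (algebraMap R B (c : R)) * bL (algebraMap R[X] B P) := by
      have h2 := beta_reflect (R := R) (B := B) (N := N) (p := reflect N f)
        (natDegree_le_iff_coeff_eq_zero.mpr fun i hi => by
          rw [coeff_reflect, revAt_gt hi, coeff_eq_zero_of_natDegree_lt hi])
      have h3 : reflect N (reflect N f) = f := Polynomial.ext fun i => by
        rw [coeff_reflect, coeff_reflect, revAt_invol]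
      rw [h3] at h2
      rw [h2, ← map_mul, IsScalarTower.algebraMap_apply R R[X] B, Polynomial.algebraMap_eq, ← map_mul]
      congr 2
      simp [P, ← mul_assoc, ← C_mul]
    simp only [Units.val_mul, Units.val_pow_eq_pow_val, Units.coe_map, Units.val_mkOfMulEqOne]
    calc beta R B f = beta R B f * (xL * wL) ^ N := by rw [xL_mul_wL, one_pow, mul_one]
      _ = (beta R B f * xL ^ N) * wL ^ N := by rw [mul_pow, mul_assoc]
      _ = _ := by rw [h1]; simp; ring
  · intro T _ i a b hab h0
    let : Invertible a := ⟨b, by rw [mul_comm]; exact hab, hab⟩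
    have h4 := eval₂_reflect_mul_pow i a N f le_rfl
    rw [h0] at h4
    have : eval₂ i b (reflect N f) = 0 := by
      show eval₂ i (⅟a) (reflect N f) = 0
      have := congrArg (· * b ^ N) h4
      simpa [mul_assoc, ← mul_pow, hab] using this
    rw [show P = C (↑c⁻¹ : R) * reflect N f from rfl, eval₂_mul, this, mul_zero]

variable (hB : Hens2.IsPairHenselization R[X] (Ideal.span {(X : R[X])}) B)

include hB

omit [Algebra R B] [IsScalarTower R R[X] B] in
theorem exists_poly_sub {P : R[X]} (hm : P.Monic) (hc : ∀ i < P.natDegree, P.coeff i ∈ maximalIdeal R)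
    (b : B) : ∃ q, b - algebraMap R[X] B q ∈ Ideal.span {algebraMap R[X] B P} := by
  obtain ⟨q, hq⟩ := (Weierstrass.division hB hm hc (algebraMap R[X] B P) 1 (by simp)).1 b
  exact ⟨q, by simpa using neg_mem hq⟩

theorem regular_beta {f : R[X]} (hf : f ∈ Special R) (a : Loc R B) (h : beta R B f * a = 0) : a = 0 := by
  obtain ⟨P, u, hm, -, he, -⟩ := exists_distinguished (B := B) hf
  obtain ⟨⟨b, s⟩, hs⟩ := IsLocalization.surj (Submonoid.powers (algebraMap R[X] B X)) a
  rw [he, mul_right_comm, u.mul_left_eq_zero] at h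
  have h1 : bL (algebraMap R[X] B P * b) = 0 := by
    rw [map_mul, ← hs, ← mul_assoc, h, zero_mul]
  obtain ⟨t, ht⟩ := (IsLocalization.map_eq_zero_iff (Submonoid.powers (algebraMap R[X] B X))
    (Loc R B) _).mp h1
  rw [mul_left_comm] at ht
  have h2 : (t : B) * b = 0 := Weierstrass.mul_left_injective_of_monic hB hm (ht.trans (mul_zero _).symm)
  have h3 : bL b = 0 := (IsLocalization.map_eq_zero_iff (Submonoid.powers _) _ _).mpr ⟨t, h2⟩
  rw [h3, (IsLocalization.map_units (Loc R B) s).mul_left_eq_zero] at hs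
  exact hs

theorem bijective_mod {f : R[X]} (hf : f ∈ Special R) :
    (∀ y : Loc R B, ∃ g, y - beta R B g ∈ Ideal.span {beta R B f}) ∧
      ∀ g, beta R B g ∈ Ideal.span {beta R B f} → g ∈ Ideal.span {f} := by
  obtain ⟨P, u, hm, hc, he, hroot⟩ := exists_distinguished (B := B) hf
  have hspan : Ideal.span {beta R B f} = Ideal.span {bL (algebraMap R[X] B P)} := by
    rw [he, Ideal.span_singleton_mul_right_unit u.isUnit]
  set T := R[X] ⧸ Ideal.span {f}
  let mk : R[X] →+* T := Ideal.Quotient.mk _
  obtain ⟨cu, hcu⟩ := coeff_zero_isUnit hf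
  let w0 : R[X] := -(C (↑cu⁻¹ : R) * f.divX)
  have hw : mk X * mk w0 = 1 := by
    rw [← map_mul, ← map_one mk, Ideal.Quotient.eq, Ideal.mem_span_singleton]
    refine ⟨-C (↑cu⁻¹ : R), ?_⟩
    have hdiv := X_mul_divX_add f
    have hcc : C (↑cu⁻¹ : R) * C (f.coeff 0) = 1 := by
      rw [← C_mul, ← hcu, Units.inv_mul, C_1]
    simp only [w0]
    linear_combination hcc - C (↑cu⁻¹ : R) * hdiv
  let θ : R[X] →+* T := eval₂RingHom (mk.comp C) (mk w0)
  have hθ : θ P = 0 := hroot (mk.comp C) (mk X) (mk w0) hw (by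
    rw [← hom_eval₂, eval₂_C_X]
    exact Ideal.Quotient.eq_zero_iff_mem.mpr (Ideal.mem_span_singleton_self f))
  have hBP := Weierstrass.quotientMap_bijective hB hm hc
  let e := RingEquiv.ofBijective _ hBP
  have hPθ : ∀ p ∈ Ideal.span {P}, θ p = 0 := fun p hp => by
    obtain ⟨c, rfl⟩ := Ideal.mem_span_singleton.mp hp
    rw [map_mul, hθ, zero_mul]
  let θB : B →+* T :=
    ((Ideal.Quotient.lift _ θ hPθ).comp e.symm.toRingHom).comp (Ideal.Quotient.mk _)
  have hθB : ∀ q, θB (algebraMap R[X] B q) = θ q := fun q => by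
    show Ideal.Quotient.lift _ θ hPθ (e.symm (Ideal.Quotient.mk _ (algebraMap R[X] B q))) = θ q
    rw [show Ideal.Quotient.mk _ (algebraMap R[X] B q) = e (Ideal.Quotient.mk _ q) from rfl,
      e.symm_apply_apply, Ideal.Quotient.lift_mk]
  have hθu : IsUnit (θB (algebraMap R[X] B X)) := by
    rw [hθB, coe_eval₂RingHom, eval₂_X]
    exact IsUnit.of_mul_eq_one (mk X) (by rw [mul_comm]; exact hw)
  let θL : Loc R B →+* T := IsLocalization.Away.lift (algebraMap R[X] B X) hθu
  have hθL : ∀ b, θL (bL b) = θB b := fun b => IsLocalization.Away.lift_eq _ hθu b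
  have hcomp : θL.comp (beta R B) = mk := by
    refine Polynomial.ringHom_ext (fun r => ?_) ?_
    · rw [RingHom.comp_apply, beta_C, hθL, IsScalarTower.algebraMap_apply R R[X] B, hθB,
        Polynomial.algebraMap_eq, coe_eval₂RingHom, eval₂_C]
      rfl
    · rw [RingHom.comp_apply, beta_X]
      have h1 : mk w0 * θL (wL) = 1 := by
        have := congrArg θL (xL_mul_wL (R := R) (B := B))
        rwa [map_mul, map_one, hθL, hθB, coe_eval₂RingHom, eval₂_X] at this
      calc θL (wL) = (mk X * mk w0) * θL (wL) := by rw [hw, one_mul]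
        _ = mk X := by rw [mul_assoc, h1, mul_one]
  refine ⟨fun y => ?_, fun g hg => ?_⟩
  · let ρ : R[X] →+* Loc R B ⧸ Ideal.span {beta R B f} := (Ideal.Quotient.mk _).comp (beta R B)
    suffices hs : Function.Surjective ρ by
      obtain ⟨g, hg⟩ := hs (Ideal.Quotient.mk _ y)
      exact ⟨g, Ideal.Quotient.eq.mp hg.symm⟩
    intro z
    obtain ⟨y, rfl⟩ := Ideal.Quotient.mk_surjective z
    obtain ⟨⟨b, _, n, rfl⟩, hs⟩ := IsLocalization.surj (Submonoid.powers (algebraMap R[X] B X)) y
    obtain ⟨q, hq⟩ := exists_poly_sub hB hm hc b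
    have hx : Ideal.Quotient.mk (Ideal.span {beta R B f}) (xL) ∈ ρ.range := by
      refine ⟨w0, ?_⟩
      have h1 : ρ (X * w0) = 1 := by
        have hk : X * w0 - 1 ∈ Ideal.span {f} := Ideal.Quotient.eq.mp (by rw [map_mul, map_one]; exact hw)
        have := Ideal.mem_map_of_mem (beta R B) hk
        rw [Ideal.map_span, Set.image_singleton, map_sub, map_one] at this
        rw [RingHom.comp_apply, ← map_one (Ideal.Quotient.mk _)]
        exact Ideal.Quotient.eq.mpr this
      calc ρ w0 = Ideal.Quotient.mk _ (xL * wL) * ρ w0 := by rw [xL_mul_wL, map_one, one_mul]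
        _ = Ideal.Quotient.mk _ (xL) * ρ (X * w0) := by
          rw [map_mul, map_mul ρ, mul_assoc, RingHom.comp_apply _ _ X, beta_X]
        _ = _ := by rw [h1, mul_one]
    have hr : ∀ r : R, Ideal.Quotient.mk (Ideal.span {beta R B f}) (bL (algebraMap R B r)) ∈ ρ.range :=
      fun r => ⟨C r, by rw [RingHom.comp_apply, beta_C]⟩
    have hy : y = bL b * wL ^ n := by
      rw [← hs, map_pow, mul_assoc, ← mul_pow, xL_mul_wL, one_pow, mul_one]
    have hb : Ideal.Quotient.mk (Ideal.span {beta R B f}) (bL b) =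
        Ideal.Quotient.mk _ (bL (algebraMap R[X] B q)) := by
      rw [Ideal.Quotient.eq, hspan, ← map_sub]
      have := Ideal.mem_map_of_mem (bL) hq
      rwa [Ideal.map_span, Set.image_singleton] at this
    show _ ∈ ρ.range
    rw [hy, map_mul, map_pow, hb, ← eval₂_xL, hom_eval₂]
    refine mul_mem ?_ (pow_mem (show _ ∈ ρ.range from ⟨X, by rw [RingHom.comp_apply, beta_X]⟩) n)
    rw [eval₂_eq_sum, Polynomial.sum_def]
    exact sum_mem fun i _ => mul_mem (hr _) (pow_mem hx i)
  · obtain ⟨c, hc'⟩ := Ideal.mem_span_singleton.mp hg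
    have := congrArg θL hc'
    rw [map_mul, ← RingHom.comp_apply θL, ← RingHom.comp_apply θL (beta R B) f, hcomp,
      show mk f = 0 from Ideal.Quotient.eq_zero_iff_mem.mpr (Ideal.mem_span_singleton_self f), zero_mul] at this
    exact Ideal.Quotient.eq_zero_iff_mem.mp this

variable (R B) in
omit hB in
/-- `m R{t}[1/t]`. -/
noncomputable abbrev mL : Ideal (Loc R B) := ((maximalIdeal R).map (algebraMap R B)).map (bL)

theorem pow_notMem (n : ℕ) : algebraMap R[X] B X ^ n ∉ (maximalIdeal R).map (algebraMap R B) := by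
  intro h
  rw [← map_pow] at h
  have := Weierstrass.coeff_mem_of_mem hB (n := n + 1) (Ideal.mem_sup_left h) (i := n) (by omega)
  rw [coeff_X_pow_self] at this
  exact (maximalIdeal.isMaximal R).ne_top ((Ideal.eq_top_iff_one _).mpr this)

theorem mL_ne_top : mL R B ≠ ⊤ := by
  intro h
  have h1 : bL 1 ∈ mL R B := h ▸ trivial
  rw [IsLocalization.algebraMap_mem_map_algebraMap_iff (Submonoid.powers (algebraMap R[X] B X))] at h1
  obtain ⟨_, ⟨n, rfl⟩, hn⟩ := h1
  rw [mul_one] at hn
  exact pow_notMem hB n hn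

theorem beta_notMem {f : R[X]} (hf : f ∈ Special R) : beta R B f ∉ mL R B := by
  intro h
  refine mL_ne_top hB ((Ideal.eq_top_iff_one _).mpr ?_)
  have h1 : beta R B (f - 1) ∈ mL R B := by
    have := Ideal.mem_map_of_mem (beta R B) (show f - 1 ∈ (maximalIdeal R).map (C : R →+* R[X]) from hf)
    rw [Ideal.map_map, show (beta R B).comp C = (bL).comp (algebraMap R B) from
      RingHom.ext fun r => beta_C r, ← Ideal.map_map] at this
    exact this
  rw [map_sub, map_one] at h1
  simpa using sub_mem h h1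

theorem exists_special {a : Loc R B} (ha : a ∉ mL R B) :
    ∃ f ∈ Special R, Ideal.span {a} = Ideal.span {beta R B f} := by
  obtain ⟨⟨b, _, n, rfl⟩, hs⟩ := IsLocalization.surj (Submonoid.powers (algebraMap R[X] B X)) a
  have hu : IsUnit (xL) := IsUnit.of_mul_eq_one _ xL_mul_wL
  have hb : b ∉ (maximalIdeal R).map (algebraMap R B) := fun hb => ha <| by
    have := Ideal.mem_map_of_mem (bL) hb
    rw [← hs, map_pow] at this
    exact (Ideal.mul_unit_mem_iff_mem _ (hu.pow n)).mp this
  obtain ⟨P, u, hm, hc, he⟩ := Weierstrass.exists_prep hB b hb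
  refine ⟨reflect P.natDegree P, ?_, ?_⟩
  · show _ - 1 ∈ (maximalIdeal R).map (C : R →+* R[X])
    refine Ideal.mem_map_C_iff.mpr fun i => ?_
    rw [coeff_sub, coeff_reflect, coeff_one]
    rcases Nat.eq_zero_or_pos i with rfl | hi
    · rw [revAt_le (Nat.zero_le _), Nat.sub_zero, hm.coeff_natDegree, if_pos rfl, sub_self]
      exact zero_mem _
    · rw [if_neg hi.ne', sub_zero]
      by_cases hle : i ≤ P.natDegree
      · rw [revAt_le hle]; exact hc _ (by omega)
      · rw [revAt_gt (not_le.mp hle), coeff_eq_zero_of_natDegree_lt (not_le.mp hle)]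
        exact zero_mem _
  · have h2 := beta_reflect (R := R) (B := B) (N := P.natDegree) (p := P) le_rfl
    rw [← Ideal.span_singleton_mul_right_unit (hu.pow n) a, ← map_pow, hs, he, map_mul,
      Ideal.span_singleton_mul_right_unit (u.isUnit.map (bL)), ← h2,
      Ideal.span_singleton_mul_right_unit (hu.pow _)]

/-- The axioms of `Dense`. -/
theorem dense :
    @Dense R[X] (Loc R B) _ _ (beta R B).toAlgebra (Special R) (mL R B) :=
  @Dense.mk R[X] (Loc R B) _ _ (beta R B).toAlgebra (Special R) (mL R B) mul_special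
    (fun _ hf => regular_special hf) (fun _ hf => regular_beta hB hf)
    (fun _ hf => (bijective_mod hB hf).1) (fun _ hf => (bijective_mod hB hf).2)
    (fun _ hf => beta_notMem hB hf) fun _ ha => exists_special hB ha

end Groth.Agent.H24.PicLaurent
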