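import Groth.Agent.H24.PicLaurent.Dense
import Mathlib.RingTheory.Polynomial.Quotient
import Mathlib.RingTheory.LocalRing.ResidueField.Basic

/-!
# Picard groups: from a dense map to a further map which is bijective on projective modules
-/

universe u

open scoped TensorProduct Polynomial
open TensorProduct.AlgebraTensorModule

namespace Groth.Agent.H24.PicLaurent

variable {A L T : Type u} [CommRing A] [CommRing L] [CommRing T] [Algebra A L] [Algebra L T]
  [Algebra A T] [IsScalarTower A L T] {S : Set A} {N : Ideal L}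

/-- Injectivity after a further map reflecting isomorphisms of projective modules. -/
theorem free_of_free_tensor (D : Dense A L S N)
    (hinj : ∀ (P Q : Type u) [AddCommGroup P] [Module L P] [Module.Finite L P] [Module.Projective L P]
      [AddCommGroup Q] [Module L Q] [Module.Finite L Q] [Module.Projective L Q],
      Nonempty (T ⊗[L] P ≃ₗ[T] T ⊗[L] Q) → Nonempty (P ≃ₗ[L] Q))
    (M : Type u) [AddCommGroup M] [Module A M] [Module.Invertible A M] (m0 : M) (φ0 : Module.Dual A M)
    (h0 : φ0 m0 ∈ S) (hfree : Module.Free T (T ⊗[A] M)) : Module.Free A M := by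
  obtain ⟨e⟩ := Module.Invertible.free_iff_linearEquiv.mp hfree
  obtain ⟨e'⟩ := hinj (L ⊗[A] M) L
    ⟨cancelBaseChange A L T T M ≪≫ₗ e ≪≫ₗ (TensorProduct.AlgebraTensorModule.rid L T T).symm⟩
  exact D.free_of_free M m0 φ0 h0 e'

/-- Surjectivity after a further map bijective on isomorphism classes of projective modules. -/
theorem exists_extension_tensor (D : Dense A L S N) (hN : N ≠ ⊤)
    (hinj : ∀ (P Q : Type u) [AddCommGroup P] [Module L P] [Module.Finite L P] [Module.Projective L P]
      [AddCommGroup Q] [Module L Q] [Module.Finite L Q] [Module.Projective L Q],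
      Nonempty (T ⊗[L] P ≃ₗ[T] T ⊗[L] Q) → Nonempty (P ≃ₗ[L] Q))
    (hsurj : ∀ (P' : Type u) [AddCommGroup P'] [Module T P'] [Module.Finite T P'] [Module.Projective T P'],
      ∃ (P : Type u) (_ : AddCommGroup P) (_ : Module L P),
        Module.Finite L P ∧ Module.Projective L P ∧ Nonempty (T ⊗[L] P ≃ₗ[T] P'))
    (L' : Type u) [AddCommGroup L'] [Module T L'] [Module.Invertible T L'] :
    ∃ (M : Type u) (_ : AddCommGroup M) (_ : Module A M),
      Module.Invertible A M ∧ Nonempty (L' ≃ₗ[T] T ⊗[A] M) := by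
  obtain ⟨M0, _, _, _, _, ⟨e0⟩⟩ := hsurj L'
  obtain ⟨M1, _, _, _, _, ⟨e1⟩⟩ := hsurj (Module.Dual T L')
  obtain ⟨f⟩ := hinj (M1 ⊗[L] M0) L
    ⟨distribBaseChange L T M1 M0 ≪≫ₗ TensorProduct.congr e1 e0 ≪≫ₗ Module.Invertible.linearEquiv T L' ≪≫ₗ
      (TensorProduct.AlgebraTensorModule.rid L T T).symm⟩
  have : Module.Invertible L M0 := Module.Invertible.right f
  obtain ⟨M, _, _, hM, ⟨g⟩⟩ := D.exists_extension hN M0
  exact ⟨M, inferInstance, inferInstance, hM,
    ⟨e0.symm ≪≫ₗ congr (LinearEquiv.refl T T) g ≪≫ₗ cancelBaseChange A L T T M⟩⟩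

/-- An invertible module over a ring has a functional congruent to one somewhere modulo an ideal with
principal ideal quotient. -/
theorem exists_functional (I : Ideal A) [IsDomain (A ⧸ I)] [IsPrincipalIdealRing (A ⧸ I)] (M : Type u)
    [AddCommGroup M] [Module A M] [Module.Invertible A M] :
    ∃ (m0 : M) (φ0 : Module.Dual A M), φ0 m0 - 1 ∈ I := by
  have : Module.Free (A ⧸ I) ((A ⧸ I) ⊗[A] M) := inferInstance
  obtain ⟨e⟩ := Module.Invertible.free_iff_linearEquiv.mp this
  obtain ⟨m0, hm0⟩ := TensorProduct.mk_surjective A M (A ⧸ I) Ideal.Quotient.mk_surjective (e.symm 1)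
  obtain ⟨φ, hφ⟩ := Module.projective_lifting_property (Algebra.linearMap A (A ⧸ I))
    ((e.toLinearMap.restrictScalars A) ∘ₗ TensorProduct.mk A (A ⧸ I) M 1) Ideal.Quotient.mk_surjective
  refine ⟨m0, φ, ?_⟩
  rw [← Ideal.Quotient.eq, map_one]
  exact (LinearMap.congr_fun hφ m0).trans (by
    show e ((1 : A ⧸ I) ⊗ₜ[A] m0) = 1
    rw [show (1 : A ⧸ I) ⊗ₜ[A] m0 = e.symm 1 from hm0, e.apply_symm_apply])

/-- `R[X] / m R[X]` is a principal ideal domain. -/
theorem quotient_map_C (R : Type u) [CommRing R] (m : Ideal R) [m.IsMaximal] :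
    IsDomain (R[X] ⧸ m.map (Polynomial.C : R →+* R[X])) ∧
      IsPrincipalIdealRing (R[X] ⧸ m.map (Polynomial.C : R →+* R[X])) := by
  let := Ideal.Quotient.field m
  let e := Ideal.polynomialQuotientEquivQuotientPolynomial m
  exact ⟨e.symm.toMulEquiv.isDomain _, IsPrincipalIdealRing.of_surjective e.toRingHom e.surjective⟩

end Groth.Agent.H24.PicLaurent
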